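import Groth.Agent.L24.Sub.SmoothPre
import Groth.Agent.L24.St.FlatCover
import Groth.Agent.L23.OpenSub

/-!
Largest open loci of a representable functor, read on algebraic spaces over the target.
-/

set_option autoImplicit false
set_option backward.isDefEq.respectTransparency false
set_option backward.isDefEq.respectTransparency.types false

universe u

open CategoryTheory CategoryTheory.Limits AlgebraicGeometry Opposite AlgSt

noncomputable section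

namespace Groth.L09.OpenLocus

open Groth.L24.St

variable {S : Scheme.{u}} {𝒳 𝒴 𝒳₁ : AlgSt.Cat S} {P Q R : MorphismProperty (AlgSp.Sp S)}

/-- The largest open subspace on which a map of spaces has a property. -/
def IsLargest (P : MorphismProperty (AlgSp.Sp S)) {X Y : AlgSp.Space S} (f : X ⟶ Y) (W : AlgSp.Space S)
    (w : W ⟶ X) : Prop :=
  AlgSp.RepWith @IsOpenImmersion w.hom ∧ P (w ≫ f).hom ∧
    ∀ (W₁ : AlgSp.Space S) (w₁ : W₁ ⟶ X), AlgSp.RepWith @IsOpenImmersion w₁.hom → P (w₁ ≫ f).hom →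
      ∃ k : W₁ ⟶ W, k ≫ w = w₁

/-- A space representing the base change of a functor to a space. -/
structure Wit {G : AlgSp.Space S} (f : 𝒳 ⥤ᵇ 𝒴) (z : ofSp G.obj ⥤ᵇ 𝒴) where
  F : AlgSp.Space S
  a : F ⟶ G
  e : ofSp F.obj ⥤ᵇ FibCat.fp z f
  he : FibCat.IsEquivOver e
  i : BasedFunctor.comp e (FibCat.fpFst z f) ≅ ofSpMap a.hom

variable {G : AlgSp.Space S} {f : 𝒳 ⥤ᵇ 𝒴} {z : ofSp G.obj ⥤ᵇ 𝒴}

/-- The points of the base change read on the space. -/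
def Wit.pts (w : Wit f z) (p : AlgSp.Points w.F.obj) : Points (FibCat.fp z f) := Points.map w.e (ptMap _ p)

theorem Wit.pts_bijective (w : Wit f z) : Function.Bijective w.pts :=
  (bijective_map_of_isEquivOver w.he).comp (ptMap_bijective _)

theorem Wit.pts_isHomeomorph (w : Wit f z) : IsHomeomorph w.pts :=
  (isHomeomorph_map_of_isEquivOver w.he).comp (ptMap_isHomeomorph w.F)

theorem Wit.map_fst_pts (w : Wit f z) (p : AlgSp.Points w.F.obj) :
    Points.map (FibCat.fpFst z f) (w.pts p) = ptMap _ (AlgSp.Points.map w.a.hom p) := by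
  rw [← ptMap_map, ← map_congr w.i, map_comp_apply]
  rfl

/-- Two witnesses differ by an isomorphism over the base. -/
theorem Wit.exists_iso (w w' : Wit f z) : ∃ m : w'.F ⟶ w.F,
    IsIso m.hom ∧ m ≫ w.a = w'.a ∧ ∀ p, w.pts (AlgSp.Points.map m.hom p) = w'.pts p := by
  obtain ⟨c, hc, -, ⟨ic⟩⟩ := exists_inverse w.he
  let Φ := BasedFunctor.comp w'.e c
  have j : BasedFunctor.comp (ofSpMap (spMap Φ)) w.e ≅ w'.e :=
    whiskerR (isoOfSpMap Φ).symm w.e ≪≫ whiskerL w'.e ic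
  refine ⟨ObjectProperty.homMk (spMap Φ), isIso_spMap (isEquivOver_comp w'.he hc), ?_, fun p => ?_⟩
  · refine ObjectProperty.hom_ext _ ?_
    show spMap Φ ≫ w.a.hom = w'.a.hom
    have h := spMap_congr (show BasedFunctor.comp (ofSpMap (spMap Φ)) (ofSpMap w.a.hom) ≅ ofSpMap w'.a.hom from
      whiskerL _ w.i.symm ≪≫ whiskerR j (FibCat.fpFst z f) ≪≫ w'.i)
    rwa [spMap_comp, spMap_ofSpMap, spMap_ofSpMap, spMap_ofSpMap] at h
  · show Points.map w.e (ptMap _ (AlgSp.Points.map (spMap Φ) p)) = Points.map w'.e (ptMap _ p)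
    rw [← ptMap_map, ← map_comp_apply, map_congr j]

theorem exists_wit_prop (h𝒳 : FibCat.IsFibGrpd 𝒳.p) (h𝒴 : FibCat.IsFibGrpd 𝒴.p) (hB : PBase P)
    (hL : AlgSp.IsLocalOnBase AlgSp.IsFppfCover P) (hf : RepByAlgSpWith P f) :
    ∃ w : Wit f z, P w.a.hom := by
  obtain ⟨V, a, e, hV, he, ⟨i⟩, ha⟩ := exists_space_prop hasAtlasCovers_fppf hB hL h𝒳 h𝒴 hf G.property z
  exact ⟨⟨⟨V, hV⟩, ObjectProperty.homMk a, e, he, i⟩, ha⟩

theorem Wit.prop (w : Wit f z) (h𝒳 : FibCat.IsFibGrpd 𝒳.p) (h𝒴 : FibCat.IsFibGrpd 𝒴.p) (hB : PBase P)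
    (hL : AlgSp.IsLocalOnBase AlgSp.IsFppfCover P) (hf : RepByAlgSpWith P f) : P w.a.hom := by
  obtain ⟨w', hw'⟩ := exists_wit_prop (z := z) h𝒳 h𝒴 hB hL hf
  obtain ⟨m, hm, hma, -⟩ := w'.exists_iso w
  rw [← hma]
  exact hB.iso_left w'.F.property w.F.property G.property m.hom hw'

/-- The restriction of a witness to an open substack of the source. -/
theorem Wit.exists_sub (w : Wit f z) (h𝒳 : FibCat.IsFibGrpd 𝒳.p) {ι : 𝒳₁ ⥤ᵇ 𝒳}
    (h𝒳₁ : FibCat.IsFibGrpd 𝒳₁.p) (hι : IsOpenImm ι) :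
    ∃ (w₁ : Wit (BasedFunctor.comp ι f) z) (j : w₁.F ⟶ w.F), AlgSp.RepWith @IsOpenImmersion j.hom ∧
      j ≫ w.a = w₁.a ∧
      Set.range (w.pts ∘ AlgSp.Points.map j.hom) = Points.map (FibCat.fpSnd z f) ⁻¹' Set.range (Points.map ι) := by
  let q := FibCat.fpSnd z f
  let q' := BasedFunctor.comp w.e q
  obtain ⟨V, j, eV, hV, heV, ⟨iV⟩, hj'⟩ := exists_space h𝒳₁ h𝒳 hι w.F.property q'
  have hj : AlgSp.RepWith @IsOpenImmersion j :=
    descends_repWith _ j hV w.F.property (prop_snd_of_repWith (pBase_repWith _) hV w.F.property j hj')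
  let C := fpMap (F := q) (G := ι) (F' := q') (G' := ι) w.e (BasedFunctor.id _) (Iso.refl _) (Iso.refl _)
  have hC : FibCat.IsEquivOver C := fpMap_isEquivOver w.he (isEquivOver_id _) _ _
  let e₁ := BasedFunctor.comp (BasedFunctor.comp eV C) (fpComp z ι f)
  have he₁ : FibCat.IsEquivOver e₁ := isEquivOver_comp (isEquivOver_comp heV hC) (fpComp_isEquivOver z ι f)
  let i₁ : BasedFunctor.comp e₁ (FibCat.fpFst z (BasedFunctor.comp ι f)) ≅ ofSpMap (j ≫ w.a.hom) :=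
    whiskerR iV (BasedFunctor.comp w.e (FibCat.fpFst z f)) ≪≫ whiskerL (ofSpMap j) w.i ≪≫
      isoOfSpMapEq (by rw [spMap_comp, spMap_ofSpMap, spMap_ofSpMap, spMap_ofSpMap])
  refine ⟨⟨⟨V, hV⟩, ObjectProperty.homMk (j ≫ w.a.hom), e₁, he₁, i₁⟩, ObjectProperty.homMk j, hj,
    ObjectProperty.hom_ext _ rfl, ?_⟩
  ext ω
  constructor
  · rintro ⟨v, rfl⟩
    refine ⟨Points.map (FibCat.fpSnd q' ι) (Points.map eV (ptMap V v)), ?_⟩
    show _ = Points.map q (Points.map w.e (ptMap _ (AlgSp.Points.map j v)))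
    rw [← ptMap_map, ← map_congr iV, ← map_comp_apply, ← map_comp_apply, ← map_comp_apply, ← map_comp_apply]
    exact congrFun (map_congr (whiskerL eV (FibCat.fpIso q' ι).symm)) (ptMap V v)
  · rintro ⟨x, hx⟩
    obtain ⟨p, rfl⟩ := w.pts_bijective.surjective ω
    obtain ⟨w', hw', -⟩ := exists_points_fp h𝒳₁ h𝒳 (ofSp_isFibGrpd w.F.obj) ι q' (ptMap _ p) x
      (by rw [hx, map_comp_apply]; rfl)
    obtain ⟨v', rfl⟩ := (bijective_map_of_isEquivOver heV).surjective w'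
    obtain ⟨v, rfl⟩ := (ptMap_bijective _).surjective v'
    refine ⟨v, congrArg w.pts ((ptMap_bijective _).injective ?_)⟩
    show ptMap _ (AlgSp.Points.map j v) = ptMap _ p
    rw [← hw', ← ptMap_map, ← map_congr iV, map_comp_apply]

/-- The points of the largest open subspace of a base change on which the projection has a property. -/
def IsLoc (P : MorphismProperty (AlgSp.Sp S)) (f : 𝒳 ⥤ᵇ 𝒴) (z : ofSp G.obj ⥤ᵇ 𝒴)
    (Λ : Set (Points (FibCat.fp z f))) : Prop :=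
  ∃ (w : Wit f z) (W : AlgSp.Space S) (j : W ⟶ w.F), IsLargest P w.a W j ∧
    Set.range (w.pts ∘ AlgSp.Points.map j.hom) = Λ

theorem IsLoc.unique {Λ Λ' : Set (Points (FibCat.fp z f))} (h : IsLoc P f z Λ)
    (h' : IsLoc P f z Λ') : Λ = Λ' := by
  have key : ∀ {Λ Λ' : Set (Points (FibCat.fp z f))}, IsLoc P f z Λ → IsLoc P f z Λ' → Λ' ⊆ Λ := by
    rintro _ _ ⟨w, W, j, ⟨-, -, hmax⟩, rfl⟩ ⟨w', W', j', ⟨hj', hP', -⟩, rfl⟩
    obtain ⟨m, hm, hma, hp⟩ := w.exists_iso w'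
    obtain ⟨k, hk⟩ := hmax W' (j' ≫ m) (Groth.L23.repWith_comp hj' (Groth.L23.repWith_of_isIso m.hom))
      (by rwa [Category.assoc, hma])
    rintro _ ⟨v, rfl⟩
    refine ⟨AlgSp.Points.map k.hom v, ?_⟩
    show w.pts (AlgSp.Points.map j.hom (AlgSp.Points.map k.hom v)) = w'.pts (AlgSp.Points.map j'.hom v)
    rw [← hp, ← AlgSp.Points.map_comp, ← AlgSp.Points.map_comp]
    exact congrArg (fun t : W' ⟶ w.F => w.pts (AlgSp.Points.map t.hom v)) hk
  exact (key h' h).antisymm (key h h')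

theorem IsLoc.isOpen {Λ : Set (Points (FibCat.fp z f))} (h : IsLoc P f z Λ) : IsOpen Λ := by
  obtain ⟨w, W, j, ⟨hj, -, -⟩, rfl⟩ := h
  rw [Set.range_comp]
  exact w.pts_isHomeomorph.isOpenMap _ (Groth.L23.isOpenMap_map_of_universallyOpen
    (Groth.L23.repWith_universallyOpen_of_etale (Groth.L23.repWith_mono
      (fun φ (_ : IsOpenImmersion φ) => inferInstanceAs (Etale φ)) hj))).isOpen_range

/-- Open substacks on which the functor has the property pull back into the locus. -/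
theorem IsLoc.preimage_subset {Λ : Set (Points (FibCat.fp z f))} (h : IsLoc P f z Λ)
    (h𝒳 : FibCat.IsFibGrpd 𝒳.p) (h𝒴 : FibCat.IsFibGrpd 𝒴.p) (hB : PBase P)
    (hL : AlgSp.IsLocalOnBase AlgSp.IsFppfCover P) {ι : 𝒳₁ ⥤ᵇ 𝒳} (h𝒳₁ : FibCat.IsFibGrpd 𝒳₁.p)
    (hι : IsOpenImm ι) (hP : RepByAlgSpWith P (BasedFunctor.comp ι f)) :
    Points.map (FibCat.fpSnd z f) ⁻¹' Set.range (Points.map ι) ⊆ Λ := by
  obtain ⟨w, W, j, ⟨-, -, hmax⟩, rfl⟩ := h
  obtain ⟨w₁, j₁, hj₁, ha, hr⟩ := w.exists_sub h𝒳 h𝒳₁ hι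
  obtain ⟨k, hk⟩ := hmax w₁.F j₁ hj₁ (by rw [ha]; exact w₁.prop h𝒳₁ h𝒴 hB hL hP)
  rw [← hr]
  rintro _ ⟨v, rfl⟩
  refine ⟨AlgSp.Points.map k.hom v, ?_⟩
  show w.pts (AlgSp.Points.map j.hom (AlgSp.Points.map k.hom v)) = w.pts (AlgSp.Points.map j₁.hom v)
  rw [← AlgSp.Points.map_comp]
  exact congrArg (fun t : w₁.F ⟶ w.F => w.pts (AlgSp.Points.map t.hom v)) hk

variable {G₂ : AlgSp.Space S} {z₂ : ofSp G₂.obj ⥤ᵇ 𝒴}

/-- The comparison with a base change of the base space. -/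
def transfer (f : 𝒳 ⥤ᵇ 𝒴) (g : G₂ ⟶ G) (i : BasedFunctor.comp (ofSpMap g.hom) z ≅ z₂) :
    FibCat.fp (ofSpMap g.hom) (FibCat.fpFst z f) ⥤ᵇ FibCat.fp z₂ f :=
  BasedFunctor.comp (fpPaste (ofSpMap g.hom) z f)
    (fpMap (BasedFunctor.id _) (BasedFunctor.id _) i.symm (Iso.refl _))

theorem IsLoc.exists_baseChange {Λ : Set (Points (FibCat.fp z f))} (h : IsLoc P f z Λ)
    (h𝒳 : FibCat.IsFibGrpd 𝒳.p) (h𝒴 : FibCat.IsFibGrpd 𝒴.p) (hB : PBase Q)
    (hL : AlgSp.IsLocalOnBase AlgSp.IsFppfCover Q) (hf : RepByAlgSpWith Q f)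
    (h₄ : ∀ (X Y X' Y' : AlgSp.Space S) (f : X ⟶ Y) (g : Y' ⟶ Y) (f' : X' ⟶ Y') (g' : X' ⟶ X),
      IsPullback g'.hom f'.hom f.hom g.hom → Q f.hom → R g.hom →
      ∀ (W : AlgSp.Space S) (w : W ⟶ X), IsLargest P f W w →
        ∀ (W' : AlgSp.Space S) (w' : W' ⟶ X') (k : W' ⟶ W), IsPullback k.hom w'.hom w.hom g'.hom →
          IsLargest P f' W' w')
    (g : G₂ ⟶ G) (hg : R g.hom) (i : BasedFunctor.comp (ofSpMap g.hom) z ≅ z₂) :
    ∃ Λ₂, IsLoc P f z₂ Λ₂ ∧ ∀ ω : Points (FibCat.fp (ofSpMap g.hom) (FibCat.fpFst z f)),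
      Points.map (transfer f g i) ω ∈ Λ₂ ↔ Points.map (FibCat.fpSnd (ofSpMap g.hom) (FibCat.fpFst z f)) ω ∈ Λ := by
  obtain ⟨w, W, j, hW, rfl⟩ := h
  have hQ := w.prop h𝒳 h𝒴 hB hL hf
  let X₂ : AlgSp.Space S := ⟨pullback w.a.hom g.hom,
    isAlgSpace_pullback w.F.property G₂.property G.property _ _⟩
  let fst : X₂ ⟶ w.F := ObjectProperty.homMk (pullback.fst w.a.hom g.hom)
  let snd : X₂ ⟶ G₂ := ObjectProperty.homMk (pullback.snd w.a.hom g.hom)
  have sq : IsPullback fst.hom snd.hom w.a.hom g.hom := IsPullback.of_hasPullback _ _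
  have sq' := sq.flip.map (sheafToPresheaf (AlgSp.J S) (Type (u + 1)))
  let A : ofSp X₂.obj ⥤ᵇ FibCat.fp (ofSpMap g.hom) (ofSpMap w.a.hom) := pshFp sq'.w
  let C := fpMap (F := ofSpMap g.hom) (G := FibCat.fpFst z f) (F' := ofSpMap g.hom) (G' := ofSpMap w.a.hom)
    (BasedFunctor.id _) w.e (Iso.refl _) w.i
  let Θ := BasedFunctor.comp A C
  have hΘ : FibCat.IsEquivOver Θ :=
    isEquivOver_comp (pshFp_isEquivOver sq') (fpMap_isEquivOver (isEquivOver_id _) w.he _ _)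
  have hT : FibCat.IsEquivOver (transfer f g i) :=
    isEquivOver_comp (fpPaste_isEquivOver _ _ _) (fpMap_isEquivOver (isEquivOver_id _) (isEquivOver_id _) _ _)
  let w₂ : Wit f z₂ := ⟨X₂, snd, BasedFunctor.comp Θ (transfer f g i), isEquivOver_comp hΘ hT, Iso.refl _⟩
  let X₃ : AlgSp.Space S := ⟨pullback j.hom fst.hom,
    isAlgSpace_pullback W.property X₂.property w.F.property _ _⟩
  let k : X₃ ⟶ W := ObjectProperty.homMk (pullback.fst j.hom fst.hom)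
  let j₂ : X₃ ⟶ X₂ := ObjectProperty.homMk (pullback.snd j.hom fst.hom)
  have sq₂ : IsPullback k.hom j₂.hom j.hom fst.hom := IsPullback.of_hasPullback _ _
  have hW₂ := h₄ w.F G X₂ G₂ w.a g snd fst sq hQ hg W j hW X₃ j₂ k sq₂
  refine ⟨_, ⟨w₂, X₃, j₂, hW₂, rfl⟩, fun ω => ?_⟩
  obtain ⟨p', rfl⟩ := (bijective_map_of_isEquivOver hΘ).surjective ω
  obtain ⟨p, rfl⟩ := (ptMap_bijective _).surjective p'
  have e1 : Points.map (transfer f g i) (Points.map Θ (ptMap _ p)) = w₂.pts p := (map_comp_apply _ _ _).symm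
  have e2 : Points.map (FibCat.fpSnd (ofSpMap g.hom) (FibCat.fpFst z f)) (Points.map Θ (ptMap _ p)) =
      w.pts (AlgSp.Points.map fst.hom p) := by
    show _ = Points.map w.e (ptMap _ (AlgSp.Points.map fst.hom p))
    rw [← ptMap_map, ← map_comp_apply, ← map_comp_apply]
    rfl
  rw [e1, e2, Set.range_comp, Set.range_comp, w₂.pts_bijective.injective.mem_set_image,
    w.pts_bijective.injective.mem_set_image]
  constructor
  · rintro ⟨v, rfl⟩
    exact ⟨AlgSp.Points.map k.hom v, by rw [← AlgSp.Points.map_comp, sq₂.w, AlgSp.Points.map_comp]⟩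
  · rintro ⟨x, hx⟩
    obtain ⟨v, -, hv⟩ := Groth.L23.exists_of_isPullback sq₂ x p hx
    exact ⟨v, hv⟩

end Groth.L09.OpenLocus
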