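import Groth.Agent.L09.OpenLocus.Basic
import Groth.Agent.L24.LocQ.RepDescent
import Groth.Agent.L24.LocQ.Instances

/-!
The largest open substack on which a representable functor has a property.
-/

set_option autoImplicit false
set_option backward.isDefEq.respectTransparency false
set_option backward.isDefEq.respectTransparency.types false

universe u

open CategoryTheory CategoryTheory.Limits AlgebraicGeometry Opposite AlgSt

noncomputable section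

namespace Groth.L09.OpenLocus

open Groth.L24.St

variable {S : Scheme.{u}} {𝒳 𝒴 : AlgSt.Cat S} {P Q R : MorphismProperty (AlgSp.Sp S)}

/-- The hypotheses on the triple of properties. -/
structure Setup (P Q R : MorphismProperty (AlgSp.Sp S)) : Prop where
  pBaseP : PBase P
  pBaseQ : PBase Q
  pBaseR : PBase R
  localP : AlgSp.IsLocalOnBase AlgSp.IsFppfCover P
  localQ : AlgSp.IsLocalOnBase AlgSp.IsFppfCover Q
  localR : AlgSp.IsLocalOnBase AlgSp.IsFppfCover R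
  smooth : ∀ (X Y : AlgSp.Space S) (g : X ⟶ Y), AlgSp.LocP @Smooth g.hom → R g.hom
  exists_largest : ∀ (X Y : AlgSp.Space S) (f : X ⟶ Y), Q f.hom →
    ∃ (W : AlgSp.Space S) (w : W ⟶ X), IsLargest P f W w
  baseChange : ∀ (X Y X' Y' : AlgSp.Space S) (f : X ⟶ Y) (g : Y' ⟶ Y) (f' : X' ⟶ Y') (g' : X' ⟶ X),
    IsPullback g'.hom f'.hom f.hom g.hom → Q f.hom → R g.hom →
    ∀ (W : AlgSp.Space S) (w : W ⟶ X), IsLargest P f W w →
      ∀ (W' : AlgSp.Space S) (w' : W' ⟶ X') (k : W' ⟶ W), IsPullback k.hom w'.hom w.hom g'.hom →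
        IsLargest P f' W' w'

theorem Setup.exists_loc (hS : Setup P Q R) {G : AlgSp.Space S} {f : 𝒳 ⥤ᵇ 𝒴} (h𝒳 : FibCat.IsFibGrpd 𝒳.p)
    (h𝒴 : FibCat.IsFibGrpd 𝒴.p) (hf : RepByAlgSpWith Q f) (z : ofSp G.obj ⥤ᵇ 𝒴) : ∃ Λ, IsLoc P f z Λ := by
  obtain ⟨w, hw⟩ := exists_wit_prop (z := z) h𝒳 h𝒴 hS.pBaseQ hS.localQ hf
  obtain ⟨W, j, hW⟩ := hS.exists_largest _ _ w.a hw
  exact ⟨_, w, W, j, hW, rfl⟩

theorem isOpenMap_fpSnd_of_smooth (h𝒳 : IsAlgStack Scheme.fppfPrecoverage 𝒳)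
    (h𝒴 : IsAlgStack Scheme.fppfPrecoverage 𝒴) {G : AlgSp.Space S} {z : ofSp G.obj ⥤ᵇ 𝒴} (f : 𝒳 ⥤ᵇ 𝒴)
    (hz : RepByAlgSpWith (AlgSp.LocP @Smooth) z) : IsOpenMap (Points.map (FibCat.fpSnd z f)) := by
  have hG := isAlgStack_of_repByAlgSp (𝒳 := ofSp G.obj) ⟨G, _, isEquivOver_id _⟩
  have hF := isAlgStack_fp hG h𝒳 h𝒴 z f
  have hs : RepByAlgSpWith (AlgSp.LocP @Smooth) (FibCat.fpSnd z f) := repWith_fpSnd f hz
  exact Groth.L24.LocQ.isOpenMor_of_flat_lfp hF h𝒳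
    (Groth.L24.LocQ.locQ_of_repWith_locP Groth.L23.etLocal_flat hF h𝒳 (repWith_mono (fun _ _ _ _ h =>
      Groth.L23.locP_mono (fun φ (hφ : Smooth φ) => have := hφ; (inferInstance : Flat φ)) h) hs))
    (Groth.L24.LocQ.locQ_of_repWith_locP Groth.L23.etLocal_lfp hF h𝒳 (repWith_mono (fun _ _ _ _ h =>
      Groth.L23.locP_mono (fun φ (hφ : Smooth φ) => have := hφ; (inferInstance : LocallyOfFinitePresentation φ)) h) hs))

/-- The locus on a smooth space over the target is saturated for the projection to the source. -/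
theorem Setup.saturated (hS : Setup P Q R) (h𝒳 : FibCat.IsFibGrpd 𝒳.p) (h𝒴 : FibCat.IsFibGrpd 𝒴.p)
    {G : AlgSp.Space S} {f : 𝒳 ⥤ᵇ 𝒴} (hf : RepByAlgSpWith Q f) {y : ofSp G.obj ⥤ᵇ 𝒴}
    (hy : RepByAlgSpWith (AlgSp.LocP @Smooth) y) {Λ : Set (Points (FibCat.fp y f))} (hΛ : IsLoc P f y Λ) :
    Points.map (FibCat.fpSnd y f) ⁻¹' (Points.map (FibCat.fpSnd y f) '' Λ) = Λ := by
  refine Set.Subset.antisymm ?_ (Set.subset_preimage_image _ _)
  rintro ξ' ⟨ξ, hξ, hq⟩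
  have hgG : FibCat.IsFibGrpd (ofSp G.obj).p := ofSp_isFibGrpd G.obj
  have hB := pBase_locP (S := S) Groth.L23.etLocal_smooth
  have hL := isLocalOnBase_locP_fppf (S := S) Groth.L23.etLocal_smooth
  obtain ⟨M, hM⟩ := exists_wit_prop (z := y) hgG h𝒴 hB hL hy
  obtain ⟨M', hM'F, hM'⟩ : ∃ (g' : M.F ⟶ G), Nonempty (BasedFunctor.comp M.e (FibCat.fpSnd y y) ≅ ofSpMap g'.hom) ∧
      AlgSp.LocP @Smooth g'.hom := by
    let i' : BasedFunctor.comp (BasedFunctor.comp M.e fpSwap) (FibCat.fpFst y y) ≅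
        ofSpMap (spMap (BasedFunctor.comp M.e (FibCat.fpSnd y y))) :=
      isoOfSpMap (BasedFunctor.comp M.e (FibCat.fpSnd y y))
    let w' : Wit y y := ⟨M.F, ObjectProperty.homMk (spMap (BasedFunctor.comp M.e (FibCat.fpSnd y y))),
      BasedFunctor.comp M.e fpSwap, isEquivOver_comp M.he fpSwap_isEquivOver, i'⟩
    exact ⟨w'.a, ⟨i'⟩, w'.prop hgG h𝒴 hB hL hy⟩
  obtain ⟨i'⟩ := hM'F
  let g := M.a
  let g' := M'
  let z₂ := BasedFunctor.comp (BasedFunctor.comp M.e (FibCat.fpFst y y)) y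
  let j₁ : BasedFunctor.comp (ofSpMap g.hom) y ≅ z₂ := whiskerR M.i.symm y
  let j₂ : BasedFunctor.comp (ofSpMap g'.hom) y ≅ z₂ :=
    whiskerR i'.symm y ≪≫ whiskerL M.e (FibCat.fpIso y y).symm
  obtain ⟨Λ₂, hΛ₂, h₁⟩ := hΛ.exists_baseChange h𝒳 h𝒴 hS.pBaseQ hS.localQ hf hS.baseChange g
    (hS.smooth _ _ g hM) j₁
  obtain ⟨Λ₂', hΛ₂', h₂⟩ := hΛ.exists_baseChange h𝒳 h𝒴 hS.pBaseQ hS.localQ hf hS.baseChange g'
    (hS.smooth _ _ g' hM') j₂
  obtain rfl := hΛ₂.unique hΛ₂'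
  let q := FibCat.fpSnd y f
  have hgF : FibCat.IsFibGrpd (FibCat.fp y f).p := L09.Fib.fp_isFibGrpd hgG h𝒳 h𝒴
  obtain ⟨ν, hν₁, hν₂⟩ := exists_points_fp hgF h𝒳 hgF q q ξ ξ' hq
  let N := FibCat.fp q q
  let D : N ⥤ᵇ FibCat.fp y y :=
    FibCat.fpLift (BasedFunctor.comp (FibCat.fpFst q q) (FibCat.fpFst y f))
      (BasedFunctor.comp (FibCat.fpSnd q q) (FibCat.fpFst y f))
      (whiskerL (FibCat.fpFst q q) (FibCat.fpIso y f) ≪≫ whiskerR (FibCat.fpIso q q) f ≪≫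
        whiskerL (FibCat.fpSnd q q) (FibCat.fpIso y f).symm)
  obtain ⟨p, hp⟩ := (bijective_map_of_isEquivOver M.he).surjective (Points.map D ν)
  obtain ⟨η, -, hη⟩ := exists_points_fp (L09.Fib.fp_isFibGrpd hgF hgF h𝒳) (L09.Fib.fp_isFibGrpd hgG hgG h𝒴)
    (ofSp_isFibGrpd M.F.obj) D M.e p ν hp
  obtain ⟨r, rfl⟩ := Points.mk_surjective η
  let w := r.obj.obj.fst
  let ν₀ := r.obj.obj.snd
  let θ := r.obj.obj.iso
  have hθ : OverId θ.hom := fp_overId r.obj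
  let φ₁ : (ofSpMap g.hom).obj w ≅ ν₀.obj.fst.obj.fst :=
    (appIso M.i w).symm ≪≫ (FibCat.fpFst y y).toFunctor.mapIso θ
  let φ₂ : (ofSpMap g'.hom).obj w ≅ ν₀.obj.snd.obj.fst :=
    (appIso i' w).symm ≪≫ (FibCat.fpSnd y y).toFunctor.mapIso θ
  have hφ₁ : OverId φ₁.hom := (OverId.inv (i := appIso M.i w) (overId_app M.i.hom w)).comp (hθ.map (FibCat.fpFst y y))
  have hφ₂ : OverId φ₂.hom := (OverId.inv (i := appIso i' w) (overId_app i'.hom w)).comp (hθ.map (FibCat.fpSnd y y))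
  let ω₁ : FPt (FibCat.fp (ofSpMap g.hom) (FibCat.fpFst y f)) :=
    { K := r.K, str := r.str, obj := fpObj w ν₀.obj.fst φ₁ hφ₁, lies := r.lies }
  let ω₂ : FPt (FibCat.fp (ofSpMap g'.hom) (FibCat.fpFst y f)) :=
    { K := r.K, str := r.str, obj := fpObj w ν₀.obj.snd φ₂ hφ₂, lies := r.lies }
  have key : ((transfer f g j₁).obj ω₁.obj).obj.iso.hom ≫ f.map ν₀.obj.iso.hom =
      ((transfer f g' j₂).obj ω₂.obj).obj.iso.hom := by
    have hw : y.map θ.hom.hom.fst ≫ (D.obj ν₀).obj.iso.hom = (M.e.obj w).obj.iso.hom ≫ y.map θ.hom.hom.snd :=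
      θ.hom.hom.w
    have hD : (D.obj ν₀).obj.iso.hom = ν₀.obj.fst.obj.iso.hom ≫ f.map ν₀.obj.iso.hom ≫ ν₀.obj.snd.obj.iso.inv := by
      first
      | rfl
      | simp [D]
    rw [hD] at hw
    have hw' := congrArg (fun t => t ≫ ν₀.obj.snd.obj.iso.hom) hw
    simp only [Category.assoc, Iso.inv_hom_id, Category.comp_id] at hw'
    have l₁ : ((transfer f g j₁).obj ω₁.obj).obj.iso.hom =
        y.map θ.hom.hom.fst ≫ ν₀.obj.fst.obj.iso.hom := by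
      change (y.map (M.i.hom.toNatTrans.app w) ≫ (y.map (M.i.inv.toNatTrans.app w ≫ θ.hom.hom.fst) ≫
        ν₀.obj.fst.obj.iso.hom) ≫ 𝟙 _) = _
      rw [Category.comp_id, Functor.map_comp, Category.assoc, ← Functor.map_comp_assoc,
        show M.i.hom.toNatTrans.app w ≫ M.i.inv.toNatTrans.app w = 𝟙 _ from (appIso M.i w).hom_inv_id]
      erw [y.toFunctor.map_id, Category.id_comp]
    have l₂ : ((transfer f g' j₂).obj ω₂.obj).obj.iso.hom =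
        (M.e.obj w).obj.iso.hom ≫ y.map θ.hom.hom.snd ≫ ν₀.obj.snd.obj.iso.hom := by
      change (((M.e.obj w).obj.iso.hom ≫ y.map (i'.hom.toNatTrans.app w)) ≫
        (y.map (i'.inv.toNatTrans.app w ≫ θ.hom.hom.snd) ≫ ν₀.obj.snd.obj.iso.hom) ≫ 𝟙 _) = _
      rw [Category.comp_id, Functor.map_comp, Category.assoc, Category.assoc, ← Functor.map_comp_assoc,
        show i'.hom.toNatTrans.app w ≫ i'.inv.toNatTrans.app w = 𝟙 _ from (appIso i' w).hom_inv_id]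
      erw [y.toFunctor.map_id, Category.id_comp]
    rw [l₁, l₂, Category.assoc]
    exact hw'
  have heq : Points.map (transfer f g j₁) (Points.mk ω₁) = Points.map (transfer f g' j₂) (Points.mk ω₂) :=
    mk_eq_of_hom (p := ω₁.map (transfer f g j₁)) (q := ω₂.map (transfer f g' j₂))
      (fpHom (𝟙 w) ν₀.obj.iso.hom (by erw [z₂.toFunctor.map_id, Category.id_comp]; exact key.symm))
  rw [← hν₁, ← hη] at hξ
  have h3 : Points.map (transfer f g j₁) (Points.mk ω₁) ∈ Λ₂ := (h₁ _).2 hξ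
  rw [heq] at h3
  have h4 := (h₂ _).1 h3
  rw [← hν₂, ← hη]
  exact h4

/-- The largest open substack. -/
theorem Setup.exists_substack (hS : Setup P Q R) (h𝒳 : IsAlgStack Scheme.fppfPrecoverage 𝒳)
    (h𝒴 : IsAlgStack Scheme.fppfPrecoverage 𝒴) {f : 𝒳 ⥤ᵇ 𝒴} (hf : RepByAlgSpWith Q f) :
    ∃ Q₀ : 𝒳.obj → Prop, IsOpenSubstack 𝒳 Q₀ Scheme.fppfPrecoverage ∧
      RepByAlgSpWith P (BasedFunctor.comp (subIncl 𝒳 Q₀) f) ∧
      (∀ Q₁ : 𝒳.obj → Prop, IsOpenSubstack 𝒳 Q₁ Scheme.fppfPrecoverage →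
        RepByAlgSpWith P (BasedFunctor.comp (subIncl 𝒳 Q₁) f) → ∀ x, Q₁ x → Q₀ x) ∧
      ∃ (G : AlgSp.Space S) (y : ofSp G.obj ⥤ᵇ 𝒴) (Λ : Set (Points (FibCat.fp y f))),
        RepByAlgSpWith (AlgSp.LocP @Smooth) y ∧ RepByAlgSpWith AlgSp.IsSurjectiveMor y ∧ IsLoc P f y Λ ∧
          Set.range (Points.map (subIncl 𝒳 Q₀)) = Points.map (FibCat.fpSnd y f) '' Λ := by
  obtain ⟨V, y₁, hy₁, hys₁⟩ := h𝒴.atlas
  let G : AlgSp.Space S := ⟨(AlgSp.yon S).obj V, AlgSp.IsAlgSpace.yon_obj V⟩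
  let y : ofSp G.obj ⥤ᵇ 𝒴 := BasedFunctor.comp (toOverCat V) y₁
  have hy : RepByAlgSpWith (AlgSp.LocP @Smooth) y := (repWith_precomp (toOverCat_isEquivOver V) _).2 hy₁
  have hys : RepByAlgSpWith AlgSp.IsSurjectiveMor y := (repWith_precomp (toOverCat_isEquivOver V) _).2 hys₁
  obtain ⟨Λ, hΛ⟩ := hS.exists_loc h𝒳.isStack.1 h𝒴.isStack.1 hf y
  let q := FibCat.fpSnd y f
  let T := Points.map q '' Λ
  have hT : IsOpen T := isOpenMap_fpSnd_of_smooth h𝒳 h𝒴 f hy _ hΛ.isOpen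
  have hQ₀ := Groth.L24.Sub.isOpenSubstack_within h𝒳 hT
  have hr := Groth.L24.Sub.range_within h𝒳.isStack.1 T
  have hsat := hS.saturated h𝒳.isStack.1 h𝒴.isStack.1 hf hy hΛ
  refine ⟨Groth.L24.Sub.Within T, hQ₀, ?_, fun Q₁ hQ₁ hP => ?_, G, y, Λ, hy, hys, hΛ, hr⟩
  · obtain ⟨w, W, j, ⟨hj, hPj, -⟩, hjr⟩ := id hΛ
    obtain ⟨w₁, j₁, hj₁, hja, hj₁r⟩ := w.exists_sub h𝒳.isStack.1 hQ₀.2.1.isStack.1 hQ₀.2.2
    rw [hr] at hj₁r
    change _ = Points.map q ⁻¹' T at hj₁r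
    rw [show Points.map q ⁻¹' T = Λ from hsat, ← hjr, Set.range_comp, Set.range_comp,
      w.pts_bijective.injective.image_injective.eq_iff] at hj₁r
    obtain ⟨k, hk⟩ := (Groth.L23.exists_factor_iff hj j₁.hom).2 hj₁r.subset
    obtain ⟨k', hk'⟩ := (Groth.L23.exists_factor_iff hj₁ j.hom).2 hj₁r.superset
    have := Groth.L23.mono_of_repWith_openImmersion hj
    have := Groth.L23.mono_of_repWith_openImmersion hj₁
    have : IsIso k := ⟨k', (cancel_mono j₁.hom).1 (by rw [Category.assoc, hk', hk, Category.id_comp]),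
      (cancel_mono j.hom).1 (by rw [Category.assoc, hk, hk', Category.id_comp])⟩
    have hw₁ : P w₁.a.hom := by
      rw [← hja]
      show P (j₁.hom ≫ w.a.hom)
      rw [← hk, Category.assoc]
      exact hS.pBaseP.iso_left W.property w₁.F.property G.property k hPj
    refine (repWith_iff_fpFst_cover hS.pBaseP hS.localP hQ₀.2.1.isStack.1 h𝒴.isStack.1 (ofSp_isFibGrpd G.obj)
      (rep1_comp hQ₀.2.1.isStack.1 h𝒳.isStack.1 (repWith_rep1 hQ₀.2.2) (repWith_rep1 hf))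
      (repWith_mono (fun _ _ _ _ h => Groth.L23.locP_mono (fun φ (hφ : Smooth φ) => have := hφ; (inferInstance : Flat φ)) h) hy)
      (repWith_mono (fun _ _ _ _ h => Groth.L23.locP_mono
        (fun φ (hφ : Smooth φ) => have := hφ; (inferInstance : LocallyOfFinitePresentation φ)) h) hy) hys).2 ?_
    exact repWith_fpFst_of_space hS.pBaseP w₁.he w₁.i hw₁
  · refine (Groth.L24.Sub.subset_iff h𝒳 hQ₁ hQ₀).2 ?_
    rw [hr]
    intro x hx
    obtain ⟨ω, rfl⟩ := (isSurjective_of_repWith (L09.Fib.fp_isFibGrpd (ofSp_isFibGrpd G.obj) h𝒳.isStack.1 h𝒴.isStack.1)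
      h𝒳.isStack.1 (repWith_fpSnd f hys)) x
    exact ⟨ω, hΛ.preimage_subset h𝒳.isStack.1 h𝒴.isStack.1 hS.pBaseP hS.localP hQ₁.2.1.isStack.1 hQ₁.2.2 hP hx, rfl⟩

end Groth.L09.OpenLocus
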