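import Groth.Agent.L24.Sub.SmoothPre
import Groth.Agent.S2757

/-!
The smooth locus of a functor and flat base change.
-/

set_option autoImplicit false
set_option backward.isDefEq.respectTransparency false
set_option backward.isDefEq.respectTransparency.types false

universe u

open CategoryTheory CategoryTheory.Limits AlgebraicGeometry Opposite AlgSt

noncomputable section

namespace Groth.L09.SmoothLocusBC

open Groth.L24.St

/-- Smoothness near a point of a flat base change gives smoothness near its image. -/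
theorem smooth_nhd {U V V' : Scheme.{u}} (h : U ⟶ V) (k : V' ⟶ V) [Flat k]
    (hfp : LocallyOfFinitePresentation k ∨ LocallyOfFinitePresentation h) (O : (pullback h k).Opens)
    [hO : Smooth (O.ι ≫ pullback.snd h k)] (z : O.toScheme) :
    ∃ U₁ : U.Opens, pullback.fst h k z.1 ∈ U₁ ∧ Smooth (U₁.ι ≫ h) := by
  rcases hfp with hk | hh
  · let a := O.ι ≫ pullback.fst h k
    have : LocallyOfFinitePresentation a := inferInstance
    have : Flat a := inferInstance
    let O₁ : U.Opens := ⟨Set.range a, a.isOpenMap.isOpen_range⟩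
    have hr : Set.range a ⊆ Set.range O₁.ι := by rw [Scheme.Opens.range_ι]; exact subset_rfl
    let a' := IsOpenImmersion.lift O₁.ι a hr
    have ha' : a' ≫ O₁.ι = a := IsOpenImmersion.lift_fac _ _ _
    have hf' : Flat (a' ≫ O₁.ι) := ha' ▸ inferInstance
    have hp' : LocallyOfFinitePresentation (a' ≫ O₁.ι) := ha' ▸ inferInstance
    have : LocallyOfFinitePresentation a' := Groth.Agent.S12442.result a' O₁.ι
    have : Flat a' := MorphismProperty.of_postcomp (W' := @IsOpenImmersion) _ a' O₁.ι inferInstance hf'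
    have : Surjective a' := ⟨fun v => by
      obtain ⟨o, ho⟩ := v.2
      refine ⟨o, O₁.ι.isOpenEmbedding.injective ?_⟩
      rw [← Scheme.Hom.comp_apply, ha', ho]
      rfl⟩
    let h₁ := O₁.ι ≫ h
    have : LocallyOfFinitePresentation h₁ := by
      refine Groth.L24.Alg.locallyOfFinitePresentation_of_fppf_comp a' h₁ ?_
      show LocallyOfFinitePresentation (a' ≫ O₁.ι ≫ h)
      rw [reassoc_of% ha']
      show LocallyOfFinitePresentation ((O.ι ≫ pullback.fst h k) ≫ h)
      rw [Category.assoc, pullback.condition, ← Category.assoc]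
      infer_instance
    let m : pullback h₁ k ⟶ pullback h k := pullback.map h₁ k h k O₁.ι (𝟙 _) (𝟙 _) (by simp [h₁]) (by simp)
    let l : O.toScheme ⟶ pullback h₁ k := pullback.lift a' (O.ι ≫ pullback.snd h k) (by
      show a' ≫ O₁.ι ≫ h = _
      rw [reassoc_of% ha']
      simp [a, pullback.condition])
    have hlm : l ≫ m = O.ι := by
      apply pullback.hom_ext <;> simp [l, m, ha', a]
    have hm : m ≫ pullback.snd h k = pullback.snd h₁ k := by simp [m]
    let O' := m ⁻¹ᵁ O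
    have hs : Smooth (O'.ι ≫ pullback.snd h₁ k) := by
      rw [← hm, ← morphismRestrict_ι_assoc]
      infer_instance
    have hz : l z ∈ O' := by
      show m (l z) ∈ O
      rw [← Scheme.Hom.comp_apply, hlm]
      exact z.2
    obtain ⟨U₁, hu, hU₁⟩ := Groth.Agent.S2757.result h₁ k (l z) (Flat.stalkMap _ _) ⟨O', hz, hs⟩
    refine ⟨O₁.ι ''ᵁ U₁, ⟨_, hu, ?_⟩, ?_⟩
    · show (pullback.fst h₁ k ≫ O₁.ι) (l z) = pullback.fst h k (O.ι z)
      rw [← Scheme.Hom.comp_apply, ← Scheme.Hom.comp_apply]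
      have e : l ≫ pullback.fst h₁ k ≫ O₁.ι = O.ι ≫ pullback.fst h k := by
        rw [pullback.lift_fst_assoc, ha']
      rw [e]
    · have e : (O₁.ι ''ᵁ U₁).ι = (O₁.ι.isoImage U₁).inv ≫ U₁.ι ≫ O₁.ι := by simp
      rw [e, Category.assoc, Category.assoc]
      exact (MorphismProperty.cancel_left_of_respectsIso @Smooth _ _).2 hU₁
  · exact Groth.Agent.S2757.result h k z.1 (Flat.stalkMap _ _) ⟨O, z.2, hO⟩

variable {S : Scheme.{u}} {𝒳 𝒴 𝒵 : AlgSt.Cat S}

open Groth.L24 Groth.L24.Sub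

/-- The base change of a chart along a map of charts of the targets. -/
theorem exists_chart_baseChange' {f : 𝒳 ⥤ᵇ 𝒴} {g : 𝒵 ⥤ᵇ 𝒴} {U V V' : Over S} {y : FibCat.overCat V ⥤ᵇ 𝒴}
    {y' : FibCat.overCat V' ⥤ᵇ 𝒵} {k : V' ⟶ V} (κ : BasedFunctor.comp y' g ≅ BasedFunctor.comp (overMap k) y)
    {ℓ : FibCat.overCat U ⥤ᵇ FibCat.fp f y} {h : U ⟶ V} (i : BasedFunctor.comp ℓ (FibCat.fpSnd f y) ≅ overMap h) :
    ∃ L : FibCat.overCat (pullback h k) ⥤ᵇ FibCat.fp (FibCat.fpFst g f) y',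
      (∀ {Q : MorphismProperty (AlgSp.Sp S)}, RepByAlgSpWith Q ℓ → RepByAlgSpWith Q L) ∧
      Nonempty (BasedFunctor.comp L (FibCat.fpSnd (FibCat.fpFst g f) y') ≅ overMap (pullback.snd h k)) ∧
      Nonempty (BasedFunctor.comp L (BasedFunctor.comp (FibCat.fpFst (FibCat.fpFst g f) y') (FibCat.fpSnd g f)) ≅
        BasedFunctor.comp (overMap (pullback.fst h k)) (BasedFunctor.comp ℓ (FibCat.fpFst f y))) := by
  let sq := ((IsPullback.of_hasPullback h k).map (AlgSp.yon S)).map (sheafToPresheaf (AlgSp.J S) (Type (u + 1)))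
  let A := pshFp sq.w
  let B := fpPost (ofSpMap ((AlgSp.yon S).map h)) (ofSpMap ((AlgSp.yon S).map k)) (toOverCat V)
  let C := fpMap (F := overMap h) (G := overMap k)
    (F' := BasedFunctor.comp (ofSpMap ((AlgSp.yon S).map h)) (toOverCat V))
    (G' := BasedFunctor.comp (ofSpMap ((AlgSp.yon S).map k)) (toOverCat V))
    (toOverCat U) (toOverCat V') (LocQ.yonToOverIso h).symm (LocQ.yonToOverIso k).symm
  let E0 := BasedFunctor.comp (ofOverCat (pullback h k)) (BasedFunctor.comp A (BasedFunctor.comp B C))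
  have hE0 : FibCat.IsEquivOver E0 := isEquivOver_comp (ofOverCat_isEquivOver _)
    (isEquivOver_comp (pshFp_isEquivOver sq) (isEquivOver_comp (fpPost_isEquivOver _ _ (toOverCat_isEquivOver V))
      (fpMap_isEquivOver (toOverCat_isEquivOver U) (toOverCat_isEquivOver V') _ _)))
  let L1 := legL (F := FibCat.fpSnd f y) (G := overMap k) ℓ i
  let S1 := fpSwap (F := FibCat.fpSnd f y) (G := overMap k)
  let M1 := fpMap (F := overMap k) (G := FibCat.fpFst y f) (F' := overMap k) (G' := FibCat.fpSnd f y)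
    (BasedFunctor.id _) (fpSwap (F := f) (G := y)) (Iso.refl _) (Iso.refl _)
  let M2 := fpMap (F := BasedFunctor.comp y' g) (G := f) (F' := BasedFunctor.comp (overMap k) y) (G' := f)
    (BasedFunctor.id _) (BasedFunctor.id _) κ (Iso.refl _)
  obtain ⟨c, hc, -, ⟨ic⟩⟩ := exists_inverse (fpPaste_isEquivOver y' g f)
  let E1 := BasedFunctor.comp (BasedFunctor.comp S1 (BasedFunctor.comp M1
    (BasedFunctor.comp (fpPaste (overMap k) y f) M2))) (BasedFunctor.comp c fpSwap)
  have hE1 : FibCat.IsEquivOver E1 := isEquivOver_comp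
    (isEquivOver_comp fpSwap_isEquivOver (isEquivOver_comp
      (fpMap_isEquivOver (isEquivOver_id _) fpSwap_isEquivOver _ _)
      (isEquivOver_comp (fpPaste_isEquivOver _ y f) (fpMap_isEquivOver (isEquivOver_id _) (isEquivOver_id _) _ _))))
    (isEquivOver_comp hc fpSwap_isEquivOver)
  refine ⟨BasedFunctor.comp (BasedFunctor.comp E0 L1) E1, fun hQ =>
    (repWith_postcomp hE1 _).2 ((repWith_precomp hE0 _).2 (legL_repWith hQ)), ⟨?_⟩, ⟨?_⟩⟩
  · exact whiskerL (BasedFunctor.comp (BasedFunctor.comp E0 L1) (BasedFunctor.comp S1 (BasedFunctor.comp M1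
        (BasedFunctor.comp (fpPaste (overMap k) y f) M2))))
      (whiskerR ic (FibCat.fpFst (BasedFunctor.comp y' g) f))
  · exact whiskerL (BasedFunctor.comp (BasedFunctor.comp E0 L1) (BasedFunctor.comp S1 (BasedFunctor.comp M1
        (BasedFunctor.comp (fpPaste (overMap k) y f) M2))))
      (whiskerR ic (FibCat.fpSnd (BasedFunctor.comp y' g) f))

/-- A functor is smooth on the part of a chart lying in an open substack where it is smooth. -/
theorem smooth_preimage (h𝒳 : IsAlgStack Scheme.fppfPrecoverage 𝒳) (h𝒴 : IsAlgStack Scheme.fppfPrecoverage 𝒴)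
    {f : 𝒳 ⥤ᵇ 𝒴} {Q' : 𝒳.obj → Prop} (hQ : IsOpenSubstack 𝒳 Q' Scheme.fppfPrecoverage)
    (hsm : AlgSt.LocQ (AlgSp.LocP @Smooth) (BasedFunctor.comp (subIncl 𝒳 Q') f)) {U V : Over S}
    {y : FibCat.overCat V ⥤ᵇ 𝒴} (hy : RepByAlgSpWith (AlgSp.LocP @Smooth) y)
    {ℓ : FibCat.overCat U ⥤ᵇ FibCat.fp f y} (hℓ : RepByAlgSpWith (AlgSp.LocP @Smooth) ℓ) {h : U ⟶ V}
    (i : BasedFunctor.comp ℓ (FibCat.fpSnd f y) ≅ overMap h) (O : U.left.Opens)
    (hO : Points.ofChart (BasedFunctor.comp ℓ (FibCat.fpFst f y)) '' (O : Set U.left) ⊆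
      Set.range (Points.map (subIncl 𝒳 Q'))) : Smooth (O.ι ≫ h.left) := by
  let x := BasedFunctor.comp ℓ (FibCat.fpFst f y)
  let α : BasedFunctor.comp x f ≅ BasedFunctor.comp (overMap h) y :=
    whiskerL ℓ (FibCat.fpIso f y) ≪≫ whiskerR i y
  have hx : RepByAlgSpWith (AlgSp.LocP @Smooth) x := repWith_comp_locP Groth.L23.etLocal_smooth (overCat_isFibGrpd U)
    (L09.Fib.fp_isFibGrpd h𝒳.isStack.1 (overCat_isFibGrpd V) h𝒴.isStack.1) hℓ (repWith_fpFst f hy)
  obtain ⟨x', hx', ⟨e⟩⟩ := exists_chart_sub h𝒳 hQ hx O hO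
  let o : Over.mk (O.ι ≫ U.hom) ⟶ U := Over.homMk O.ι rfl
  obtain ⟨c⟩ := LocQ.exists_overMap_comp o h
  let ι' := subIncl 𝒳 Q'
  let ℓ' := FibCat.fpLift (F := BasedFunctor.comp ι' f) (G := y) x' (overMap (o ≫ h))
    (whiskerR e f ≪≫ whiskerL (overMap o) α ≪≫ whiskerR c y)
  let L := legL (G := y) ι' (Iso.refl (BasedFunctor.comp ι' f))
  have hL : RepByAlgSpWith (MorphismProperty.monomorphisms (AlgSp.Sp S)) L :=
    legL_repWith (repWith_mono_of_openImm hQ.2.2)
  have iL : BasedFunctor.comp ℓ' L ≅ BasedFunctor.comp (overMap o) ℓ :=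
    mkIso2 (fun b => fpIsoMk (appIso e b) ((appIso c b).symm ≪≫ (appIso i ((overMap o).obj b)).symm) (by
        change f.map (appIso e b).hom ≫ (ℓ.obj ((overMap o).obj b)).obj.iso.hom =
          ((Iso.refl _).hom ≫ (f.map (e.hom.toNatTrans.app b) ≫
            (((ℓ.obj ((overMap o).obj b)).obj.iso.hom ≫ y.map (i.hom.toNatTrans.app ((overMap o).obj b))) ≫
              y.map (c.hom.toNatTrans.app b))) ≫ 𝟙 _) ≫
            y.map ((appIso c b).inv ≫ (appIso i ((overMap o).obj b)).inv)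
        have hc : c.hom.toNatTrans.app b ≫ c.inv.toNatTrans.app b = 𝟙 _ := (appIso c b).hom_inv_id
        have hi : i.hom.toNatTrans.app ((overMap o).obj b) ≫ i.inv.toNatTrans.app ((overMap o).obj b) = 𝟙 _ :=
          (appIso i ((overMap o).obj b)).hom_inv_id
        simp [appIso]
        rw [← Functor.map_comp, ← Functor.map_comp, ← Functor.map_comp, reassoc_of% hc, hi]
        exact congrArg (f.map (e.hom.toNatTrans.app b) ≫ ·)
          ((Category.comp_id _).symm.trans (congrArg (_ ≫ ·) (y.toFunctor.map_id _).symm))))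
      (fun b b' m => fp_ext (e.hom.toNatTrans.naturality m) (by
        show _ ≫ (c.inv.toNatTrans.app b' ≫ i.inv.toNatTrans.app ((overMap o).obj b')) =
          (c.inv.toNatTrans.app b ≫ i.inv.toNatTrans.app ((overMap o).obj b)) ≫ _
        have h1 := c.inv.toNatTrans.naturality m
        have h2 := i.inv.toNatTrans.naturality ((overMap o).map m)
        simp only [BasedFunctor.comp_toFunctor, Functor.comp_map] at h1 h2 ⊢
        rw [← Category.assoc]
        exact ((congrArg (· ≫ _) h1).trans (Category.assoc _ _ _)).trans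
          ((congrArg (_ ≫ ·) h2).trans (Category.assoc _ _ _).symm)))
      (fun b => overId_fp _ (overId_app e.hom b))
  have ho : RepByAlgSpWith (AlgSp.LocP @Smooth) (overMap o) :=
    repWith_mono (fun _ _ _ _ h => Groth.L23.locP_of_repWith Groth.L23.etLocal_smooth h)
      (repWith_overMap (R := @Smooth) (inferInstanceAs (Smooth O.ι)))
  have hfp := isAlgStack_fp h𝒳 (isAlgStack_overCat V) h𝒴 f y
  have hℓ' : RepByAlgSpWith (AlgSp.LocP @Smooth) ℓ' := smooth_of_comp_mono hL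
    ((repWith_congr iL).2 (repWith_comp_locP Groth.L23.etLocal_smooth (overCat_isFibGrpd _)
      (overCat_isFibGrpd U) ho hℓ))
  have h1 := LocQ.prop_of_chart isSmoothLocalST_smooth hQ.2.1.isStack.1 h𝒴.isStack.1 hsm hy hℓ'
    (h' := o ≫ h) (Iso.refl _)
  exact (LocQ.locP_map_iff Groth.L23.etLocal_smooth (o ≫ h)).1 h1

/-- The image of an open of a chart on which a functor is smooth lies in the largest smooth open substack. -/
theorem subset_of_smooth (h𝒳 : IsAlgStack Scheme.fppfPrecoverage 𝒳) {f : 𝒳 ⥤ᵇ 𝒴} {Q : 𝒳.obj → Prop}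
    (hQ₁ : IsOpenSubstack 𝒳 Q Scheme.fppfPrecoverage)
    (hQ₃ : ∀ Q' : 𝒳.obj → Prop, IsOpenSubstack 𝒳 Q' Scheme.fppfPrecoverage →
      AlgSt.LocQ (AlgSp.LocP @Smooth) (BasedFunctor.comp (subIncl 𝒳 Q') f) → ∀ a, Q' a → Q a)
    {U V : Over S} {x : FibCat.overCat U ⥤ᵇ 𝒳} {y : FibCat.overCat V ⥤ᵇ 𝒴} {h : U ⟶ V}
    (α : BasedFunctor.comp x f ≅ BasedFunctor.comp (overMap h) y)
    (hx : RepByAlgSpWith (AlgSp.LocP @Smooth) x) (hy : RepByAlgSpWith (AlgSp.LocP @Smooth) y) (O : U.left.Opens)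
    (hOs : Smooth (O.ι ≫ h.left)) :
    Points.ofChart x '' (O : Set U.left) ⊆ Set.range (Points.map (subIncl 𝒳 Q)) := by
  let T := Points.ofChart x '' (O : Set U.left)
  have hT : IsOpen T := isOpenMap_ofChart isOpenMap_of_smooth h𝒳.isStack.1 hx _ O.2
  have hsub := range_within h𝒳.isStack.1 T
  have hQ := isOpenSubstack_within h𝒳 hT
  refine hsub.ge.trans ((subset_iff h𝒳 hQ hQ₁).1 (hQ₃ _ hQ ?_))
  obtain ⟨x', hx', ⟨e⟩⟩ := exists_chart_sub h𝒳 hQ hx O hsub.ge
  let o : Over.mk (O.ι ≫ U.hom) ⟶ U := Over.homMk O.ι rfl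
  obtain ⟨c⟩ := LocQ.exists_overMap_comp o h
  refine ⟨_, V, x', y, o ≫ h, whiskerR e f ≪≫ whiskerL (overMap o) α ≪≫ whiskerR c y, hx', ?_, hy,
    (LocQ.locP_map_iff Groth.L23.etLocal_smooth _).2 hOs⟩
  refine repWith_surjective_of_isSurjective (overCat_isFibGrpd _) hQ.2.1.isStack.1 (repWith_rep1 hx') fun p => ?_
  haveI : (subIncl 𝒳 (Within T)).toFunctor.Full := inferInstanceAs (ObjectProperty.ι _).Full
  obtain ⟨u, hu, hup⟩ : Points.map (subIncl 𝒳 (Within T)) p ∈ T := hsub.subset ⟨p, rfl⟩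
  let v : ↥(Over.mk (O.ι ≫ U.hom)).left := (⟨u, hu⟩ : O.toScheme)
  refine ⟨ptOver v, injective_map_of_fullFaithful hQ.2.1.isStack.1 h𝒳.isStack.1 (subIncl 𝒳 (Within T)) ?_⟩
  rw [← map_comp_apply, map_congr e, ← hup]
  exact ofChart_overMap_comp o x v

end Groth.L09.SmoothLocusBC
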